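import Mathlib
import Cfsg.Agent.Lib.Recog.CharSimple

/-!
# Primitive groups in which all derangements have prime power order
-/

set_option autoImplicit false

namespace Cfsg.Agent.DerangePPower

open MulAction

/-- A proper subgroup of a finite group misses some conjugacy class. -/
theorem exists_avoid {G : Type*} [Group G] [Finite G] {L : Subgroup G} (hL : L ≠ ⊤) :
    ∃ g : G, ∀ x : G, x⁻¹ * g * x ∉ L := by
  classical
  by_contra hne
  push Not at hne
  have := Fintype.ofFinite G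
  have := Fintype.ofFinite (G ⧸ L)
  have hfix : ∀ g : G, 1 ≤ Fintype.card (fixedBy (G ⧸ L) g) := fun g => by
    obtain ⟨x, hx⟩ := hne g
    refine Fintype.card_pos_iff.2 ⟨⟨(x : G ⧸ L), ?_⟩⟩
    show ((g * x : G) : G ⧸ L) = (x : G ⧸ L)
    rw [QuotientGroup.eq]
    have := L.inv_mem hx
    simpa [mul_assoc] using this
  have hidx : 1 < Fintype.card (fixedBy (G ⧸ L) (1 : G)) := by
    have h1 : fixedBy (G ⧸ L) (1 : G) = Set.univ := by ext; simp
    rw [← Nat.card_eq_fintype_card, h1, Nat.card_coe_set_eq, Set.ncard_univ,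
      ← Subgroup.index_eq_card]
    exact L.one_lt_index_of_ne_top hL
  have hsum := sum_card_fixedBy_eq_card_orbits_mul_card_group G (G ⧸ L)
  have h1 : Fintype.card (Quotient (orbitRel G (G ⧸ L))) = 1 := by
    have hsub : Subsingleton (Quotient (orbitRel G (G ⧸ L))) :=
      pretransitive_iff_subsingleton_quotient G (G ⧸ L) |>.1 inferInstance
    exact le_antisymm (Fintype.card_le_one_iff_subsingleton.2 hsub)
      (Fintype.card_pos_iff.2 ⟨Quotient.mk'' ((1 : G) : G ⧸ L)⟩)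
  rw [h1, one_mul] at hsum
  have hlt : ∑ _g : G, 1 < ∑ g : G, Fintype.card (fixedBy (G ⧸ L) g) :=
    Finset.sum_lt_sum (fun g _ => hfix g) ⟨1, Finset.mem_univ _, hidx⟩
  simp only [Finset.sum_const, Finset.card_univ, smul_eq_mul, mul_one] at hlt
  omega

variable {G : Type*} [Group G]

/-- A `p`-group minimal among the subgroups normalised by `N` is commutative. -/
theorem comm_of_pGroup [Finite G] {p : ℕ} [Fact p.Prime] {S N : Subgroup G} (hS1 : S ≠ ⊥)
    (hSn : ∀ n ∈ N, ∀ k ∈ S, n * k * n⁻¹ ∈ S)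
    (hmin : ∀ K : Subgroup G, K ≤ S → K ≠ ⊥ → (∀ n ∈ N, ∀ k ∈ K, n * k * n⁻¹ ∈ K) → K = S)
    (hp : IsPGroup p S) : ∀ a ∈ S, ∀ b ∈ S, a * b = b * a := by
  have hz : (S ⊓ Subgroup.centralizer (S : Set G)) = S := by
    refine hmin _ inf_le_left ?_ ?_
    · have : Nontrivial S := (Subgroup.nontrivial_iff_ne_bot S).2 hS1
      have := hp.center_nontrivial
      obtain ⟨z, hz⟩ := exists_ne (1 : Subgroup.center S)
      intro h0
      apply hz
      have hmem : ((z : S) : G) ∈ S ⊓ Subgroup.centralizer (S : Set G) :=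
        ⟨(z : S).2, Subgroup.mem_centralizer_iff.2 fun s hs => by
          simpa using congrArg Subtype.val (Subgroup.mem_center_iff.1 z.2 ⟨s, hs⟩)⟩
      rw [h0, Subgroup.mem_bot] at hmem
      exact Subtype.ext (Subtype.ext hmem)
    · rintro n hn k ⟨hk, hkc⟩
      refine ⟨hSn n hn k hk, Subgroup.mem_centralizer_iff.2 fun s hs => ?_⟩
      have := Subgroup.mem_centralizer_iff.1 hkc (n⁻¹ * s * n)
        (by simpa using hSn n⁻¹ (N.inv_mem hn) s hs)
      calc s * (n * k * n⁻¹) = n * ((n⁻¹ * s * n) * k) * n⁻¹ := by group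
        _ = n * (k * (n⁻¹ * s * n)) * n⁻¹ := by rw [this]
        _ = n * k * n⁻¹ * s := by group
  intro a ha b hb
  exact (Subgroup.mem_centralizer_iff.1 (hz.ge hb).2 a ha)

/-- A group of order not a power of `p` has an element of another prime order. -/
theorem exists_prime_element [Finite G] {p : ℕ} [Fact p.Prime] (S : Subgroup G)
    (hS : ¬ IsPGroup p S) : ∃ q : ℕ, ∃ x ∈ S, q.Prime ∧ q ≠ p ∧ orderOf x = q := by
  have : ∃ q : ℕ, q.Prime ∧ q ∣ Nat.card S ∧ q ≠ p := by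
    by_contra hne
    push Not at hne
    exact hS (IsPGroup.of_card (Nat.eq_prime_pow_of_unique_prime_dvd Nat.card_pos.ne' fun {d} hd hdd =>
      hne d hd hdd))
  obtain ⟨q, hq, hqd, hqp⟩ := this
  have := Fact.mk hq
  obtain ⟨x, hx⟩ := exists_prime_orderOf_dvd_card' (G := S) q hqd
  exact ⟨q, x, x.2, hq, hqp, by rw [← hx, Subgroup.orderOf_coe]⟩

variable {Ω : Type*} [MulAction G Ω]

/-- Semiregular subgroups are `p`-groups when all derangements have `p`-power order. -/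
theorem pGroup_of_semiregular {p : ℕ} [Fact p.Prime]
    (hder : ∀ g : G, (∀ ω : Ω, g • ω ≠ ω) → ∃ k : ℕ, orderOf g = p ^ k) (S : Subgroup G)
    (hS : ∀ s ∈ S, ∀ ω : Ω, s • ω = ω → s = 1) : IsPGroup p S := by
  refine IsPGroup.iff_orderOf.2 fun s => ?_
  by_cases h : (s : G) = 1
  · exact ⟨0, by rw [pow_zero, ← Subgroup.orderOf_coe, h, orderOf_one]⟩
  · obtain ⟨k, hk⟩ := hder s fun ω hω => h (hS s s.2 ω hω)
    exact ⟨k, by rw [← Subgroup.orderOf_coe, hk]⟩

/-- A non-commutative minimal normal subgroup is simple: it equals any of its minimal normal subgroups. -/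
theorem no_proper_factor [Finite G] [FaithfulSMul G Ω] {p : ℕ} [Fact p.Prime]
    (hder : ∀ g : G, (∀ ω : Ω, g • ω ≠ ω) → ∃ k : ℕ, orderOf g = p ^ k)
    (N : Subgroup G) [hN : N.Normal]
    (hmin : ∀ K : Subgroup G, K.Normal → K ≤ N → K ≠ ⊥ → K = N)
    (hnc : ¬ ∀ a ∈ N, ∀ b ∈ N, a * b = b * a) [IsPretransitive N Ω]
    (S : Subgroup G) (hS1 : S ≠ ⊥) (hSN : S ≤ N) (hSn : ∀ n ∈ N, ∀ k ∈ S, n * k * n⁻¹ ∈ S)
    (hSmin : ∀ K : Subgroup G, K ≤ S → K ≠ ⊥ → (∀ n ∈ N, ∀ k ∈ K, n * k * n⁻¹ ∈ K) → K = S) :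
    S = N := by
  by_contra hne
  let K := N ⊓ Subgroup.centralizer (S : Set G)
  have hKn : ∀ n ∈ N, ∀ k ∈ K, n * k * n⁻¹ ∈ K := by
    rintro n hn k ⟨hk, hkc⟩
    refine ⟨N.mul_mem (N.mul_mem hn hk) (N.inv_mem hn), Subgroup.mem_centralizer_iff.2 fun s hs => ?_⟩
    have := Subgroup.mem_centralizer_iff.1 hkc (n⁻¹ * s * n)
      (by simpa using hSn n⁻¹ (N.inv_mem hn) s hs)
    calc s * (n * k * n⁻¹) = n * ((n⁻¹ * s * n) * k) * n⁻¹ := by group
      _ = n * (k * (n⁻¹ * s * n)) * n⁻¹ := by rw [this]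
      _ = n * k * n⁻¹ * s := by group
  -- the conjugates of `S`
  have hconj : ∀ g : G, S.map (MulAut.conj g).toMonoidHom = S ∨
      S ⊓ S.map (MulAut.conj g).toMonoidHom = ⊥ ∧ S.map (MulAut.conj g).toMonoidHom ≤ K := by
    intro g
    let S' := S.map (MulAut.conj g).toMonoidHom
    have hS'N : S' ≤ N := by
      rintro - ⟨s, hs, rfl⟩; exact hN.conj_mem s (hSN hs) g
    have hS'n : ∀ n ∈ N, ∀ k ∈ S', n * k * n⁻¹ ∈ S' := by
      rintro n hn - ⟨s, hs, rfl⟩
      refine ⟨g⁻¹ * n * g * s * (g⁻¹ * n * g)⁻¹,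
        hSn _ (by simpa using hN.conj_mem n hn g⁻¹) s hs, ?_⟩
      simp only [MulEquiv.coe_toMonoidHom, MulAut.conj_apply]; group
    by_cases hb : S ⊓ S' = ⊥
    · refine Or.inr ⟨hb, le_inf hS'N fun x hx => Subgroup.mem_centralizer_iff.2 fun s hs => ?_⟩
      exact CharSimple.commute_of_disjoint (fun b hb' a' ha => hSn b (hS'N hb') a' ha)
        (fun a' ha b hb' => hS'n a' (hSN ha) b hb') hb s hs x hx
    · left
      have hle : S ≤ S' := inf_eq_left.1 (hSmin _ inf_le_left hb fun n hn k hk =>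
        ⟨hSn n hn k hk.1, hS'n n hn k hk.2⟩)
      exact (Subgroup.eq_of_le_of_card_ge hle
        (le_of_eq (Nat.card_congr (S.equivMapOfInjective _ (MulAut.conj g).injective).toEquiv).symm)).symm
  -- `N` is the product of `S` and `K`
  let P : Subgroup G :=
    { carrier := {n | ∃ s ∈ S, ∃ k ∈ K, n = s * k}
      one_mem' := ⟨1, S.one_mem, 1, K.one_mem, by group⟩
      mul_mem' := by
        rintro - - ⟨s, hs, k, hk, rfl⟩ ⟨s', hs', k', hk', rfl⟩
        refine ⟨s * s', S.mul_mem hs hs', k * k', K.mul_mem hk hk', ?_⟩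
        rw [mul_assoc s k, ← mul_assoc k s', ← Subgroup.mem_centralizer_iff.1 hk.2 s' hs']
        group
      inv_mem' := by
        rintro - ⟨s, hs, k, hk, rfl⟩
        refine ⟨s⁻¹, S.inv_mem hs, k⁻¹, K.inv_mem hk, ?_⟩
        rw [mul_inv_rev, Subgroup.mem_centralizer_iff.1 (K.inv_mem hk).2 s⁻¹ (S.inv_mem hs)] }
  have hNP : ∀ n ∈ N, ∃ s ∈ S, ∃ k ∈ K, n = s * k := by
    have hcl : Subgroup.normalClosure (S : Set G) = N := by
      refine hmin _ inferInstance (Subgroup.normalClosure_le_normal hSN) fun h => hS1 ?_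
      exact le_bot_iff.1 fun x hx => by
        rw [← h]; exact Subgroup.subset_normalClosure hx
    have hle : Subgroup.normalClosure (S : Set G) ≤ P := by
      refine (Subgroup.closure_le _).2 fun x hx => ?_
      obtain ⟨s, hs, hc⟩ := Group.mem_conjugatesOfSet_iff.1 hx
      obtain ⟨g, rfl⟩ := isConj_iff.1 hc
      have hmem : g * s * g⁻¹ ∈ S.map (MulAut.conj g).toMonoidHom := ⟨s, hs, rfl⟩
      rcases hconj g with h | ⟨-, h⟩
      · rw [h] at hmem
        exact ⟨_, hmem, 1, K.one_mem, by group⟩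
      · exact ⟨1, S.one_mem, _, h hmem, by group⟩
    exact fun n hn => hle (hcl.ge hn)
  -- `S` is not commutative, hence not a `p`-group
  have hSp : ¬ IsPGroup p S := by
    intro hp
    have hab := comm_of_pGroup hS1 hSn hSmin hp
    have hSZ : ∀ s ∈ S, ∀ n ∈ N, s * n = n * s := by
      intro s hs n hn
      obtain ⟨s', hs', k, hk, rfl⟩ := hNP n hn
      rw [← mul_assoc, hab s hs s' hs', mul_assoc, Subgroup.mem_centralizer_iff.1 hk.2 s hs,
        mul_assoc]
    have hZ : N ⊓ Subgroup.centralizer (N : Set G) = N := by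
      refine hmin _ inferInstance inf_le_left fun h => hS1 (le_bot_iff.1 fun s hs => ?_)
      exact h.le ⟨hSN hs, Subgroup.mem_centralizer_iff.2 fun n hn => (hSZ s hs n hn).symm⟩
    exact hnc fun x hx y hy => Subgroup.mem_centralizer_iff.1 (hZ.ge hy).2 x hx
  obtain ⟨g, hg⟩ : ∃ g : G, S.map (MulAut.conj g).toMonoidHom ≠ S := by
    by_contra hall
    push Not at hall
    refine hne (hmin S ⟨fun s hs g => ?_⟩ hSN hS1)
    exact (hall g).le ⟨s, hs, rfl⟩
  obtain ⟨hdis, hS'K⟩ := (hconj g).resolve_left hg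
  obtain ⟨q, x, hx, hq, hqp, hxq⟩ := exists_prime_element S hSp
  let t := g * x * g⁻¹
  have ht : t ∈ S.map (MulAut.conj g).toMonoidHom := ⟨x, hx, rfl⟩
  have htq : orderOf t = q := by
    rw [← hxq]; exact ((MulAut.conj g).orderOf_eq x).symm ▸ rfl
  by_cases hA : ∃ s ∈ S, ∀ k ∈ K, ∀ ω : Ω, (s * k) • ω ≠ ω
  · obtain ⟨s, hs, hfix⟩ := hA
    obtain ⟨k, hk⟩ := hder (s * t) (hfix t (hS'K ht))
    have hc : Commute s t := Subgroup.mem_centralizer_iff.1 (hS'K ht).2 s hs
    have h1 := pow_orderOf_eq_one (s * t)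
    rw [hc.mul_pow, mul_eq_one_iff_eq_inv] at h1
    have hmem : t ^ orderOf (s * t) ∈ S ⊓ S.map (MulAut.conj g).toMonoidHom :=
      ⟨by
        have := S.pow_mem hs (orderOf (s * t))
        rw [h1] at this
        simpa using S.inv_mem this, Subgroup.pow_mem _ ht _⟩
    rw [hdis, Subgroup.mem_bot, ← orderOf_dvd_iff_pow_eq_one, htq, hk] at hmem
    exact hqp ((Nat.prime_dvd_prime_iff_eq hq (Fact.out : p.Prime)).1 (hq.dvd_of_dvd_pow hmem))
  · push Not at hA
    apply hSp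
    refine pGroup_of_semiregular hder S ?_
    intro s hs b hsb
    -- the stabiliser of `b` in `N` induces all inner automorphisms of `S`
    let K' : Subgroup N := K.subgroupOf N
    have hK' : K'.Normal := ⟨fun k hk n => hKn n n.2 k hk⟩
    have htop : K' ⊔ stabilizer N b = ⊤ := by
      by_contra hL
      obtain ⟨n, hn⟩ := exists_avoid hL
      obtain ⟨s', hs', k', hk', hnsk⟩ := hNP n n.2
      obtain ⟨k, hk, ω, hω⟩ := hA s' hs'
      obtain ⟨y, rfl⟩ := exists_smul_eq N b ω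
      apply hn y
      let u : N := ⟨(y : G)⁻¹ * (s' * k) * y,
        N.mul_mem (N.mul_mem (N.inv_mem y.2) (N.mul_mem (hSN hs') hk.1)) y.2⟩
      let v : N := ⟨(y : G)⁻¹ * (k⁻¹ * k') * y,
        N.mul_mem (N.mul_mem (N.inv_mem y.2) (N.mul_mem (N.inv_mem hk.1) hk'.1)) y.2⟩
      have huv : y⁻¹ * n * y = u * v := Subtype.ext (by
        show (y : G)⁻¹ * n * y = _
        rw [hnsk]
        show _ = (y : G)⁻¹ * (s' * k) * y * ((y : G)⁻¹ * (k⁻¹ * k') * y)
        group)
      rw [huv]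
      refine Subgroup.mul_mem _ (Subgroup.mem_sup_right ?_) (Subgroup.mem_sup_left ?_)
      · show ((y : G)⁻¹ * (s' * k) * y) • b = b
        rw [mul_smul, mul_smul, inv_smul_eq_iff]; exact hω
      · show (y : G)⁻¹ * (k⁻¹ * k') * y ∈ K
        simpa using hKn (y : G)⁻¹ (N.inv_mem y.2) _ (K.mul_mem (K.inv_mem hk) hk')
    have hD : S ⊓ stabilizer G b = ⊥ := by
      by_contra hD
      have hall : S ≤ stabilizer G b := inf_eq_left.1 <| hSmin _ inf_le_left hD fun n hn k hk => by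
        refine ⟨hSn n hn k hk.1, ?_⟩
        have hmem : (⟨n, hn⟩ : N)⁻¹ ∈ K' ⊔ stabilizer N b := htop ▸ Subgroup.mem_top _
        obtain ⟨c, hc, h, hh, hch⟩ := Subgroup.mem_sup_of_normal_left.1 hmem
        have hchG : (c : G) * h = n⁻¹ := congrArg Subtype.val hch
        have hhb : (h : G) • b = b := hh
        have hcc : Commute k (c : G) := Subgroup.mem_centralizer_iff.1
          (Subgroup.mem_subgroupOf.1 hc).2 k hk.1
        have hcck : (c : G)⁻¹ * k * c = k := by rw [mul_assoc, hcc.eq, inv_mul_cancel_left]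
        have hn' : n = (h : G)⁻¹ * (c : G)⁻¹ := by rw [← mul_inv_rev, hchG, inv_inv]
        show (n * k * n⁻¹) • b = b
        rw [hn',
          show (h : G)⁻¹ * (c : G)⁻¹ * k * ((h : G)⁻¹ * (c : G)⁻¹)⁻¹
            = (h : G)⁻¹ * ((c : G)⁻¹ * k * c) * h by group, hcck, mul_smul, hhb, mul_smul,
          MulAction.mem_stabilizer_iff.1 hk.2, inv_smul_eq_iff, hhb]
      refine hS1 (le_bot_iff.1 fun z hz => ?_)
      refine eq_of_smul_eq_smul (α := Ω) fun ω => ?_
      obtain ⟨y, rfl⟩ := exists_smul_eq N b ω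
      rw [one_smul]
      have hz' : ((y : G)⁻¹ * z * y) • b = b :=
        MulAction.mem_stabilizer_iff.1 (hall (by simpa using hSn _ (N.inv_mem y.2) z hz))
      rwa [mul_smul, mul_smul, inv_smul_eq_iff] at hz'
    have : s ∈ S ⊓ stabilizer G b := ⟨hs, hsb⟩
    rwa [hD, Subgroup.mem_bot] at this

/-- The reduction: affine or almost simple. -/
theorem affine_or_almostSimple [Finite G] [FaithfulSMul G Ω] [Finite Ω] [IsPreprimitive G Ω]
    (hΩ : 2 ≤ Nat.card Ω) {p : ℕ} [Fact p.Prime]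
    (hder : ∀ g : G, (∀ ω : Ω, g • ω ≠ ω) → ∃ k : ℕ, orderOf g = p ^ k) :
    (∃ (N : Subgroup G) (r : ℕ), r.Prime ∧ N.Normal ∧ IsMulCommutative N ∧ (∀ a ∈ N, a ^ r = 1) ∧
      IsPretransitive N Ω ∧ ∀ a : Ω, stabilizer N a = ⊥) ∨
    (∃ T : Subgroup G, T.Normal ∧ IsSimpleGroup ↥T ∧ ¬ IsMulCommutative ↥T ∧
      Subgroup.centralizer (T : Set G) = ⊥) := by
  have hΩn : Nontrivial Ω := Finite.one_lt_card_iff_nontrivial.1 hΩ
  obtain ⟨a, a', haa⟩ := hΩn.exists_pair_ne
  have hGn : (⊤ : Subgroup G) ≠ ⊥ := by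
    intro h
    obtain ⟨g, hg⟩ := exists_smul_eq G a a'
    rw [(Subgroup.mem_bot.1 (h ▸ Subgroup.mem_top g) : g = 1), one_smul] at hg
    exact haa hg
  obtain ⟨N, -, hNmin'⟩ := Finite.exists_le_minimal
    (p := fun K : Subgroup G => K.Normal ∧ K ≠ ⊥) (a := ⊤) ⟨inferInstance, hGn⟩
  obtain ⟨⟨hN, hN1⟩, hNle⟩ := hNmin'
  have hmin : ∀ K : Subgroup G, K.Normal → K ≤ N → K ≠ ⊥ → K = N :=
    fun K hK hKN hK1 => le_antisymm hKN (hNle ⟨hK, hK1⟩ hKN)
  have htrans : ∀ M : Subgroup G, M.Normal → M ≠ ⊥ → IsPretransitive M Ω := by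
    intro M hM hM1
    refine IsQuasiPreprimitive.isPretransitive_of_normal fun h => hM1 (le_bot_iff.1 fun m hm => ?_)
    refine eq_of_smul_eq_smul (α := Ω) fun ω => ?_
    have := (Set.eq_univ_iff_forall.1 h ω) ⟨m, hm⟩
    rw [one_smul]; exact this
  have := htrans N hN hN1
  have hcent : ∀ M : Subgroup G, IsPretransitive M Ω → ∀ n : G, (∀ m ∈ M, m * n = n * m) →
      ∀ ω : Ω, n • ω = ω → n = 1 := by
    intro M _ n hn ω hω
    refine eq_of_smul_eq_smul (α := Ω) fun ω' => ?_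
    obtain ⟨m, rfl⟩ := exists_smul_eq M ω ω'
    rw [one_smul]
    show n • (m : G) • ω = (m : G) • ω
    rw [smul_smul, ← hn m m.2, mul_smul, hω]
  by_cases hc : ∀ x ∈ N, ∀ y ∈ N, x * y = y * x
  · left
    have hr : (Nat.card N).minFac.Prime := Nat.minFac_prime fun h => hN1 (Subgroup.card_eq_one.1 h)
    set r := (Nat.card N).minFac
    have := Fact.mk hr
    let R : Subgroup G :=
      { carrier := {x | x ∈ N ∧ x ^ r = 1}
        one_mem' := ⟨N.one_mem, one_pow r⟩
        mul_mem' := by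
          rintro x y ⟨hx, hx'⟩ ⟨hy, hy'⟩
          exact ⟨N.mul_mem hx hy, by rw [Commute.mul_pow (show Commute x y from hc x hx y hy), hx', hy', one_mul]⟩
        inv_mem' := by
          rintro x ⟨hx, hx'⟩
          exact ⟨N.inv_mem hx, by rw [inv_pow, hx', inv_one]⟩ }
    have hRN : R = N := by
      refine hmin R ⟨fun x hx g => ⟨hN.conj_mem x hx.1 g, ?_⟩⟩ (fun x hx => hx.1) fun h => ?_
      · rw [conj_pow, hx.2]; group
      · obtain ⟨x, hx⟩ := exists_prime_orderOf_dvd_card' (G := N) r (Nat.minFac_dvd _)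
        have hxr : x ^ r = 1 := hx ▸ pow_orderOf_eq_one x
        have hmem : (x : G) ∈ R := ⟨x.2, by rw [← SubmonoidClass.coe_pow, hxr, OneMemClass.coe_one]⟩
        rw [h, Subgroup.mem_bot] at hmem
        exact hr.ne_one (by rw [← hx, orderOf_eq_one_iff]; exact Subtype.ext hmem)
    refine ⟨N, r, hr, hN, ⟨⟨fun x y => Subtype.ext (hc x x.2 y y.2)⟩⟩, fun x hx => (hRN.ge hx).2,
      inferInstance, fun ω => ?_⟩
    refine eq_bot_iff.2 fun n hn => Subgroup.mem_bot.2 (Subtype.ext ?_)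
    exact hcent N inferInstance n (fun m hm => hc m hm n n.2) ω hn
  · right
    obtain ⟨S, -, hS'⟩ := Finite.exists_le_minimal
      (p := fun K : Subgroup G => K ≠ ⊥ ∧ K ≤ N ∧ ∀ n ∈ N, ∀ k ∈ K, n * k * n⁻¹ ∈ K) (a := N)
      ⟨hN1, le_rfl, fun n hn k hk => N.mul_mem (N.mul_mem hn hk) (N.inv_mem hn)⟩
    obtain ⟨⟨hS1, hSN, hSn⟩, hSle⟩ := hS'
    have hSmin : ∀ K : Subgroup G, K ≤ S → K ≠ ⊥ → (∀ n ∈ N, ∀ k ∈ K, n * k * n⁻¹ ∈ K) → K = S :=
      fun K hK h1 h2 => le_antisymm hK (hSle ⟨h1, hK.trans hSN, h2⟩ hK)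
    have hSeq : S = N := no_proper_factor hder N hmin hc S hS1 hSN hSn hSmin
    subst hSeq
    refine ⟨S, hN, ?_, ?_, ?_⟩
    · have : Nontrivial S := (Subgroup.nontrivial_iff_ne_bot S).2 hS1
      refine ⟨fun K hK => ?_⟩
      by_cases h : K.map S.subtype = ⊥
      · left; exact (Subgroup.map_eq_bot_iff_of_injective K S.subtype_injective).1 h
      · right
        have hKS : K.map S.subtype = S := hSmin _ (Subgroup.map_subtype_le K) h fun n hn k hk => by
          obtain ⟨k', hk', rfl⟩ := hk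
          exact ⟨_, hK.conj_mem k' hk' ⟨n, hn⟩, rfl⟩
        exact Subgroup.map_injective S.subtype_injective
          (hKS.trans (by rw [← MonoidHom.range_eq_map, Subgroup.range_subtype]))
    · exact fun hcomm => hc fun x hx y hy =>
        congrArg Subtype.val (hcomm.is_comm.comm (⟨x, hx⟩ : S) ⟨y, hy⟩)
    · by_contra hC
      have hCt := htrans _ inferInstance hC
      have hp : IsPGroup p S := pGroup_of_semiregular hder S fun s hs ω hω =>
        hcent _ hCt s (fun m hm => (Subgroup.mem_centralizer_iff.1 hm s hs).symm) ω hω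
      exact hc (comm_of_pGroup hS1 hSn hSmin hp)

end Cfsg.Agent.DerangePPower
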